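import Cfsg.Agent.Helper28.SZO.OrbData

set_option autoImplicit false

namespace Cfsg.Agent.Helper28.SZO

theorem orb3_8 : Cfsg.Agent.Helper28.ptChunk (Cfsg.Agent.Helper28.orbPt Cfsg.Agent.Helper28.C1681.T 22880 Cfsg.Agent.Helper28.C1681.subL 8505 ov3 op3 otp3 otw3) 8505 256 8 = true := by decide +kernel

theorem orb3_9 : Cfsg.Agent.Helper28.ptChunk (Cfsg.Agent.Helper28.orbPt Cfsg.Agent.Helper28.C1681.T 22880 Cfsg.Agent.Helper28.C1681.subL 8505 ov3 op3 otp3 otw3) 8505 256 9 = true := by decide +kernel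

theorem orb3_10 : Cfsg.Agent.Helper28.ptChunk (Cfsg.Agent.Helper28.orbPt Cfsg.Agent.Helper28.C1681.T 22880 Cfsg.Agent.Helper28.C1681.subL 8505 ov3 op3 otp3 otw3) 8505 256 10 = true := by decide +kernel

theorem orb3_11 : Cfsg.Agent.Helper28.ptChunk (Cfsg.Agent.Helper28.orbPt Cfsg.Agent.Helper28.C1681.T 22880 Cfsg.Agent.Helper28.C1681.subL 8505 ov3 op3 otp3 otw3) 8505 256 11 = true := by decide +kernel

theorem orb3_12 : Cfsg.Agent.Helper28.ptChunk (Cfsg.Agent.Helper28.orbPt Cfsg.Agent.Helper28.C1681.T 22880 Cfsg.Agent.Helper28.C1681.subL 8505 ov3 op3 otp3 otw3) 8505 256 12 = true := by decide +kernel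

theorem orb3_13 : Cfsg.Agent.Helper28.ptChunk (Cfsg.Agent.Helper28.orbPt Cfsg.Agent.Helper28.C1681.T 22880 Cfsg.Agent.Helper28.C1681.subL 8505 ov3 op3 otp3 otw3) 8505 256 13 = true := by decide +kernel

theorem orb3_14 : Cfsg.Agent.Helper28.ptChunk (Cfsg.Agent.Helper28.orbPt Cfsg.Agent.Helper28.C1681.T 22880 Cfsg.Agent.Helper28.C1681.subL 8505 ov3 op3 otp3 otw3) 8505 256 14 = true := by decide +kernel

theorem orb3_15 : Cfsg.Agent.Helper28.ptChunk (Cfsg.Agent.Helper28.orbPt Cfsg.Agent.Helper28.C1681.T 22880 Cfsg.Agent.Helper28.C1681.subL 8505 ov3 op3 otp3 otw3) 8505 256 15 = true := by decide +kernel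

end Cfsg.Agent.Helper28.SZO
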