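import Cfsg.Agent.Helper28.SZO.OrbData

set_option autoImplicit false

namespace Cfsg.Agent.Helper28.SZO

theorem orb3_16 : Cfsg.Agent.Helper28.ptChunk (Cfsg.Agent.Helper28.orbPt Cfsg.Agent.Helper28.C1681.T 22880 Cfsg.Agent.Helper28.C1681.subL 8505 ov3 op3 otp3 otw3) 8505 256 16 = true := by decide +kernel

theorem orb3_17 : Cfsg.Agent.Helper28.ptChunk (Cfsg.Agent.Helper28.orbPt Cfsg.Agent.Helper28.C1681.T 22880 Cfsg.Agent.Helper28.C1681.subL 8505 ov3 op3 otp3 otw3) 8505 256 17 = true := by decide +kernel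

theorem orb3_18 : Cfsg.Agent.Helper28.ptChunk (Cfsg.Agent.Helper28.orbPt Cfsg.Agent.Helper28.C1681.T 22880 Cfsg.Agent.Helper28.C1681.subL 8505 ov3 op3 otp3 otw3) 8505 256 18 = true := by decide +kernel

theorem orb3_19 : Cfsg.Agent.Helper28.ptChunk (Cfsg.Agent.Helper28.orbPt Cfsg.Agent.Helper28.C1681.T 22880 Cfsg.Agent.Helper28.C1681.subL 8505 ov3 op3 otp3 otw3) 8505 256 19 = true := by decide +kernel

theorem orb3_20 : Cfsg.Agent.Helper28.ptChunk (Cfsg.Agent.Helper28.orbPt Cfsg.Agent.Helper28.C1681.T 22880 Cfsg.Agent.Helper28.C1681.subL 8505 ov3 op3 otp3 otw3) 8505 256 20 = true := by decide +kernel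

theorem orb3_21 : Cfsg.Agent.Helper28.ptChunk (Cfsg.Agent.Helper28.orbPt Cfsg.Agent.Helper28.C1681.T 22880 Cfsg.Agent.Helper28.C1681.subL 8505 ov3 op3 otp3 otw3) 8505 256 21 = true := by decide +kernel

theorem orb3_22 : Cfsg.Agent.Helper28.ptChunk (Cfsg.Agent.Helper28.orbPt Cfsg.Agent.Helper28.C1681.T 22880 Cfsg.Agent.Helper28.C1681.subL 8505 ov3 op3 otp3 otw3) 8505 256 22 = true := by decide +kernel

theorem orb3_23 : Cfsg.Agent.Helper28.ptChunk (Cfsg.Agent.Helper28.orbPt Cfsg.Agent.Helper28.C1681.T 22880 Cfsg.Agent.Helper28.C1681.subL 8505 ov3 op3 otp3 otw3) 8505 256 23 = true := by decide +kernel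

end Cfsg.Agent.Helper28.SZO
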