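import Cfsg.Agent.Helper28.SZO.OrbData

set_option autoImplicit false

namespace Cfsg.Agent.Helper28.SZO

theorem orb4_24 : Cfsg.Agent.Helper28.ptChunk (Cfsg.Agent.Helper28.orbPt Cfsg.Agent.Helper28.C1681.T 22880 Cfsg.Agent.Helper28.C1681.subL 13608 ov4 op4 otp4 otw4) 13608 256 24 = true := by decide +kernel

theorem orb4_25 : Cfsg.Agent.Helper28.ptChunk (Cfsg.Agent.Helper28.orbPt Cfsg.Agent.Helper28.C1681.T 22880 Cfsg.Agent.Helper28.C1681.subL 13608 ov4 op4 otp4 otw4) 13608 256 25 = true := by decide +kernel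

theorem orb4_26 : Cfsg.Agent.Helper28.ptChunk (Cfsg.Agent.Helper28.orbPt Cfsg.Agent.Helper28.C1681.T 22880 Cfsg.Agent.Helper28.C1681.subL 13608 ov4 op4 otp4 otw4) 13608 256 26 = true := by decide +kernel

theorem orb4_27 : Cfsg.Agent.Helper28.ptChunk (Cfsg.Agent.Helper28.orbPt Cfsg.Agent.Helper28.C1681.T 22880 Cfsg.Agent.Helper28.C1681.subL 13608 ov4 op4 otp4 otw4) 13608 256 27 = true := by decide +kernel

theorem orb4_28 : Cfsg.Agent.Helper28.ptChunk (Cfsg.Agent.Helper28.orbPt Cfsg.Agent.Helper28.C1681.T 22880 Cfsg.Agent.Helper28.C1681.subL 13608 ov4 op4 otp4 otw4) 13608 256 28 = true := by decide +kernel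

theorem orb4_29 : Cfsg.Agent.Helper28.ptChunk (Cfsg.Agent.Helper28.orbPt Cfsg.Agent.Helper28.C1681.T 22880 Cfsg.Agent.Helper28.C1681.subL 13608 ov4 op4 otp4 otw4) 13608 256 29 = true := by decide +kernel

theorem orb4_30 : Cfsg.Agent.Helper28.ptChunk (Cfsg.Agent.Helper28.orbPt Cfsg.Agent.Helper28.C1681.T 22880 Cfsg.Agent.Helper28.C1681.subL 13608 ov4 op4 otp4 otw4) 13608 256 30 = true := by decide +kernel

theorem orb4_31 : Cfsg.Agent.Helper28.ptChunk (Cfsg.Agent.Helper28.orbPt Cfsg.Agent.Helper28.C1681.T 22880 Cfsg.Agent.Helper28.C1681.subL 13608 ov4 op4 otp4 otw4) 13608 256 31 = true := by decide +kernel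

end Cfsg.Agent.Helper28.SZO
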