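import Cfsg.Agent.Helper28.TCO
import Cfsg.Agent.Helper28.C1681.Cert
import Cfsg.Agent.Helper28.SZO.Orb1_0
import Cfsg.Agent.Helper28.SZO.Orb2_0
import Cfsg.Agent.Helper28.SZO.Orb3_0
import Cfsg.Agent.Helper28.SZO.Orb3_1
import Cfsg.Agent.Helper28.SZO.Orb3_2
import Cfsg.Agent.Helper28.SZO.Orb3_3
import Cfsg.Agent.Helper28.SZO.Orb3_4
import Cfsg.Agent.Helper28.SZO.Orb4_0
import Cfsg.Agent.Helper28.SZO.Orb4_1
import Cfsg.Agent.Helper28.SZO.Orb4_2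
import Cfsg.Agent.Helper28.SZO.Orb4_3
import Cfsg.Agent.Helper28.SZO.Orb4_4
import Cfsg.Agent.Helper28.SZO.Orb4_5
import Cfsg.Agent.Helper28.SZO.Orb4_6

set_option autoImplicit false

namespace Cfsg.Agent.Helper28.SZO

theorem orb1_all : ∀ t, t < 280 → Cfsg.Agent.Helper28.orbPt Cfsg.Agent.Helper28.C1681.T 22880 Cfsg.Agent.Helper28.C1681.subL 280 ov1 op1 otp1 otw1 t = true :=
  Cfsg.Agent.Helper28.pts_of_chunks _ 280 256 2 (by decide) (by decide)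
    (Cfsg.Agent.Helper28.allLt_succ _ 1 (Cfsg.Agent.Helper28.allLt_succ _ 0 (Cfsg.Agent.Helper28.allLt_zero _) orb1_0) orb1_1)

theorem ov1_lt : ov1 0 < 22880 := by decide +kernel

theorem orb2_all : ∀ t, t < 486 → Cfsg.Agent.Helper28.orbPt Cfsg.Agent.Helper28.C1681.T 22880 Cfsg.Agent.Helper28.C1681.subL 486 ov2 op2 otp2 otw2 t = true :=
  Cfsg.Agent.Helper28.pts_of_chunks _ 486 256 2 (by decide) (by decide)
    (Cfsg.Agent.Helper28.allLt_succ _ 1 (Cfsg.Agent.Helper28.allLt_succ _ 0 (Cfsg.Agent.Helper28.allLt_zero _) orb2_0) orb2_1)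

theorem ov2_lt : ov2 0 < 22880 := by decide +kernel

theorem orb3_all : ∀ t, t < 8505 → Cfsg.Agent.Helper28.orbPt Cfsg.Agent.Helper28.C1681.T 22880 Cfsg.Agent.Helper28.C1681.subL 8505 ov3 op3 otp3 otw3 t = true :=
  Cfsg.Agent.Helper28.pts_of_chunks _ 8505 256 34 (by decide) (by decide)
    (Cfsg.Agent.Helper28.allLt_succ _ 33 (Cfsg.Agent.Helper28.allLt_succ _ 32 (Cfsg.Agent.Helper28.allLt_succ _ 31 (Cfsg.Agent.Helper28.allLt_succ _ 30 (Cfsg.Agent.Helper28.allLt_succ _ 29 (Cfsg.Agent.Helper28.allLt_succ _ 28 (Cfsg.Agent.Helper28.allLt_succ _ 27 (Cfsg.Agent.Helper28.allLt_succ _ 26 (Cfsg.Agent.Helper28.allLt_succ _ 25 (Cfsg.Agent.Helper28.allLt_succ _ 24 (Cfsg.Agent.Helper28.allLt_succ _ 23 (Cfsg.Agent.Helper28.allLt_succ _ 22 (Cfsg.Agent.Helper28.allLt_succ _ 21 (Cfsg.Agent.Helper28.allLt_succ _ 20 (Cfsg.Agent.Helper28.allLt_succ _ 19 (Cfsg.Agent.Helper28.allLt_succ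 _ 18 (Cfsg.Agent.Helper28.allLt_succ _ 17 (Cfsg.Agent.Helper28.allLt_succ _ 16 (Cfsg.Agent.Helper28.allLt_succ _ 15 (Cfsg.Agent.Helper28.allLt_succ _ 14 (Cfsg.Agent.Helper28.allLt_succ _ 13 (Cfsg.Agent.Helper28.allLt_succ _ 12 (Cfsg.Agent.Helper28.allLt_succ _ 11 (Cfsg.Agent.Helper28.allLt_succ _ 10 (Cfsg.Agent.Helper28.allLt_succ _ 9 (Cfsg.Agent.Helper28.allLt_succ _ 8 (Cfsg.Agent.Helper28.allLt_succ _ 7 (Cfsg.Agent.Helper28.allLt_succ _ 6 (Cfsg.Agent.Helper28.allLt_succ _ 5 (Cfsg.Agent.Helper28.allLt_succ _ 4 (Cfsg.Agent.Helper28.allLt_succ _ 3 (Cfsg.Agent.Helper28.allLt_succ _ 2 (Cfsg.Agent.Helper28.allLt_succ _ 1 (Cfsg.Agent.Helper28.allLt_succ _ 0 (Cfsg.Agent.Helper28.allLt_zero _) orb3_0) orb3_1) orb3_2) orb3_3) orb3_4) orb3_5) orb3_6) orb3_7) orb3_8) orb3_9) orb3_10) orb3_11) orb3_12) orb3_13) orb3_14) orb3_15) orb3_16) orb3_17) orb3_18)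 orb3_19) orb3_20) orb3_21) orb3_22) orb3_23) orb3_24) orb3_25) orb3_26) orb3_27) orb3_28) orb3_29) orb3_30) orb3_31) orb3_32) orb3_33)

theorem ov3_lt : ov3 0 < 22880 := by decide +kernel

theorem orb4_all : ∀ t, t < 13608 → Cfsg.Agent.Helper28.orbPt Cfsg.Agent.Helper28.C1681.T 22880 Cfsg.Agent.Helper28.C1681.subL 13608 ov4 op4 otp4 otw4 t = true :=
  Cfsg.Agent.Helper28.pts_of_chunks _ 13608 256 54 (by decide) (by decide)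
    (Cfsg.Agent.Helper28.allLt_succ _ 53 (Cfsg.Agent.Helper28.allLt_succ _ 52 (Cfsg.Agent.Helper28.allLt_succ _ 51 (Cfsg.Agent.Helper28.allLt_succ _ 50 (Cfsg.Agent.Helper28.allLt_succ _ 49 (Cfsg.Agent.Helper28.allLt_succ _ 48 (Cfsg.Agent.Helper28.allLt_succ _ 47 (Cfsg.Agent.Helper28.allLt_succ _ 46 (Cfsg.Agent.Helper28.allLt_succ _ 45 (Cfsg.Agent.Helper28.allLt_succ _ 44 (Cfsg.Agent.Helper28.allLt_succ _ 43 (Cfsg.Agent.Helper28.allLt_succ _ 42 (Cfsg.Agent.Helper28.allLt_succ _ 41 (Cfsg.Agent.Helper28.allLt_succ _ 40 (Cfsg.Agent.Helper28.allLt_succ _ 39 (Cfsg.Agent.Helper28.allLt_succ _ 38 (Cfsg.Agent.Helper28.allLt_succ _ 37 (Cfsg.Agent.Helper28.allLt_succ _ 36 (Cfsg.Agent.Helper28.allLt_succ _ 35 (Cfsg.Agent.Helper28.allLt_succ _ 34 (Cfsg.Agent.Helper28.allLt_succ _ 33 (Cfsg.Agent.Helper28.allLt_succ _ 32 (Cfsg.Agent.Helper28.allLt_succ _ 31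 (Cfsg.Agent.Helper28.allLt_succ _ 30 (Cfsg.Agent.Helper28.allLt_succ _ 29 (Cfsg.Agent.Helper28.allLt_succ _ 28 (Cfsg.Agent.Helper28.allLt_succ _ 27 (Cfsg.Agent.Helper28.allLt_succ _ 26 (Cfsg.Agent.Helper28.allLt_succ _ 25 (Cfsg.Agent.Helper28.allLt_succ _ 24 (Cfsg.Agent.Helper28.allLt_succ _ 23 (Cfsg.Agent.Helper28.allLt_succ _ 22 (Cfsg.Agent.Helper28.allLt_succ _ 21 (Cfsg.Agent.Helper28.allLt_succ _ 20 (Cfsg.Agent.Helper28.allLt_succ _ 19 (Cfsg.Agent.Helper28.allLt_succ _ 18 (Cfsg.Agent.Helper28.allLt_succ _ 17 (Cfsg.Agent.Helper28.allLt_succ _ 16 (Cfsg.Agent.Helper28.allLt_succ _ 15 (Cfsg.Agent.Helper28.allLt_succ _ 14 (Cfsg.Agent.Helper28.allLt_succ _ 13 (Cfsg.Agent.Helper28.allLt_succ _ 12 (Cfsg.Agent.Helper28.allLt_succ _ 11 (Cfsg.Agent.Helper28.allLt_succ _ 10 (Cfsg.Agent.Helper28.allLt_succ _ 9 (Cfsg.Agent.Helper28.allLt_succ _ 8 (Cfsg.Agent.Helper28.allLt_succ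 _ 7 (Cfsg.Agent.Helper28.allLt_succ _ 6 (Cfsg.Agent.Helper28.allLt_succ _ 5 (Cfsg.Agent.Helper28.allLt_succ _ 4 (Cfsg.Agent.Helper28.allLt_succ _ 3 (Cfsg.Agent.Helper28.allLt_succ _ 2 (Cfsg.Agent.Helper28.allLt_succ _ 1 (Cfsg.Agent.Helper28.allLt_succ _ 0 (Cfsg.Agent.Helper28.allLt_zero _) orb4_0) orb4_1) orb4_2) orb4_3) orb4_4) orb4_5) orb4_6) orb4_7) orb4_8) orb4_9) orb4_10) orb4_11) orb4_12) orb4_13) orb4_14) orb4_15) orb4_16) orb4_17) orb4_18) orb4_19) orb4_20) orb4_21) orb4_22) orb4_23) orb4_24) orb4_25) orb4_26) orb4_27) orb4_28) orb4_29) orb4_30) orb4_31) orb4_32) orb4_33) orb4_34) orb4_35) orb4_36) orb4_37) orb4_38) orb4_39) orb4_40) orb4_41) orb4_42) orb4_43) orb4_44) orb4_45) orb4_46) orb4_47) orb4_48) orb4_49) orb4_50) orb4_51) orb4_52) orb4_53)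

theorem ov4_lt : ov4 0 < 22880 := by decide +kernel

end Cfsg.Agent.Helper28.SZO
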